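import Mathlib

set_option autoImplicit false

namespace Cfsg.Agent.Helper29.Spec7

/-- Entry of a `4 × 4` matrix stored row by row in a list. -/
def e4 (A : List ℕ) (i : ℕ) : ℕ := A.getD i 0

/-- Entry of a product modulo `7`. -/
def ent4 (A B : List ℕ) (i j : ℕ) : ℕ :=
  (e4 A (4 * i) * e4 B j + e4 A (4 * i + 1) * e4 B (4 + j) + e4 A (4 * i + 2) * e4 B (8 + j) +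
    e4 A (4 * i + 3) * e4 B (12 + j)) % 7

/-- Product of `4 × 4` matrices modulo `7`. -/
def mulN (A B : List ℕ) : List ℕ :=
  [ent4 A B 0 0, ent4 A B 0 1, ent4 A B 0 2, ent4 A B 0 3,
   ent4 A B 1 0, ent4 A B 1 1, ent4 A B 1 2, ent4 A B 1 3,
   ent4 A B 2 0, ent4 A B 2 1, ent4 A B 2 2, ent4 A B 2 3,
   ent4 A B 3 0, ent4 A B 3 1, ent4 A B 3 2, ent4 A B 3 3]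

/-- Sum of `4 × 4` matrices modulo `7`. -/
def addN (A B : List ℕ) : List ℕ :=
  [(e4 A 0 + e4 B 0) % 7, (e4 A 1 + e4 B 1) % 7, (e4 A 2 + e4 B 2) % 7, (e4 A 3 + e4 B 3) % 7, (e4 A 4 + e4 B 4) % 7, (e4 A 5 + e4 B 5) % 7, (e4 A 6 + e4 B 6) % 7, (e4 A 7 + e4 B 7) % 7, (e4 A 8 + e4 B 8) % 7, (e4 A 9 + e4 B 9) % 7, (e4 A 10 + e4 B 10) % 7, (e4 A 11 + e4 B 11) % 7, (e4 A 12 + e4 B 12) % 7, (e4 A 13 + e4 B 13) % 7, (e4 A 14 + e4 B 14) % 7, (e4 A 15 + e4 B 15) % 7]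

def oneN : List ℕ := [1, 0, 0, 0, 0, 1, 0, 0, 0, 0, 1, 0, 0, 0, 0, 1]
def negOneN : List ℕ := [6, 0, 0, 0, 0, 6, 0, 0, 0, 0, 6, 0, 0, 0, 0, 6]
def G1N : List ℕ := [0, 0, 0, 6, 0, 0, 1, 0, 1, 0, 0, 0, 0, 1, 0, 0]
def G1iN : List ℕ := [0, 0, 1, 0, 0, 0, 0, 1, 0, 1, 0, 0, 6, 0, 0, 0]
def G2N : List ℕ := [0, 5, 0, 0, 2, 0, 0, 0, 0, 0, 0, 3, 0, 0, 4, 0]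
def G2iN : List ℕ := [0, 4, 0, 0, 3, 0, 0, 0, 0, 0, 0, 2, 0, 0, 5, 0]
def G1sqN : List ℕ := [0, 6, 0, 0, 1, 0, 0, 0, 0, 0, 0, 6, 0, 0, 1, 0]
def G2sqN : List ℕ := [3, 0, 0, 0, 0, 3, 0, 0, 0, 0, 5, 0, 0, 0, 0, 5]
def G2p4N : List ℕ := [2, 0, 0, 0, 0, 2, 0, 0, 0, 0, 4, 0, 0, 0, 0, 4]

/-- The group `C₃ ⋊ C₈`: each element `x` with the inverse of `x - 1`, `x ^ 2`, `x ^ 4`, `x ^ 8`. -/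
def TAB : List (List ℕ × List ℕ × List ℕ × List ℕ × List ℕ) :=
  [([1, 0, 0, 0, 0, 1, 0, 0, 0, 0, 1, 0, 0, 0, 0, 1],
    [0, 0, 0, 0, 0, 0, 0, 0, 0, 0, 0, 0, 0, 0, 0, 0],
    [1, 0, 0, 0, 0, 1, 0, 0, 0, 0, 1, 0, 0, 0, 0, 1],
    [1, 0, 0, 0, 0, 1, 0, 0, 0, 0, 1, 0, 0, 0, 0, 1],
    [1, 0, 0, 0, 0, 1, 0, 0, 0, 0, 1, 0, 0, 0, 0, 1]),
   ([0, 0, 0, 6, 0, 0, 1, 0, 1, 0, 0, 0, 0, 1, 0, 0],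
    [3, 4, 4, 4, 3, 3, 3, 4, 3, 4, 3, 4, 3, 3, 3, 3],
    [0, 6, 0, 0, 1, 0, 0, 0, 0, 0, 0, 6, 0, 0, 1, 0],
    [6, 0, 0, 0, 0, 6, 0, 0, 0, 0, 6, 0, 0, 0, 0, 6],
    [1, 0, 0, 0, 0, 1, 0, 0, 0, 0, 1, 0, 0, 0, 0, 1]),
   ([0, 5, 0, 0, 2, 0, 0, 0, 0, 0, 0, 3, 0, 0, 4, 0],
    [4, 6, 0, 0, 1, 4, 0, 0, 0, 0, 2, 6, 0, 0, 1, 2],
    [3, 0, 0, 0, 0, 3, 0, 0, 0, 0, 5, 0, 0, 0, 0, 5],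
    [2, 0, 0, 0, 0, 2, 0, 0, 0, 0, 4, 0, 0, 0, 0, 4],
    [4, 0, 0, 0, 0, 4, 0, 0, 0, 0, 2, 0, 0, 0, 0, 2]),
   ([0, 6, 0, 0, 1, 0, 0, 0, 0, 0, 0, 6, 0, 0, 1, 0],
    [3, 4, 0, 0, 3, 3, 0, 0, 0, 0, 3, 4, 0, 0, 3, 3],
    [6, 0, 0, 0, 0, 6, 0, 0, 0, 0, 6, 0, 0, 0, 0, 6],
    [1, 0, 0, 0, 0, 1, 0, 0, 0, 0, 1, 0, 0, 0, 0, 1],
    [1, 0, 0, 0, 0, 1, 0, 0, 0, 0, 1, 0, 0, 0, 0, 1]),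
   ([0, 0, 3, 0, 0, 0, 0, 3, 0, 5, 0, 0, 2, 0, 0, 0],
    [3, 3, 2, 2, 4, 3, 5, 2, 6, 1, 3, 3, 6, 6, 4, 3],
    [0, 1, 0, 0, 6, 0, 0, 0, 0, 0, 0, 1, 0, 0, 6, 0],
    [6, 0, 0, 0, 0, 6, 0, 0, 0, 0, 6, 0, 0, 0, 0, 6],
    [1, 0, 0, 0, 0, 1, 0, 0, 0, 0, 1, 0, 0, 0, 0, 1]),
   ([0, 0, 5, 0, 0, 0, 0, 5, 0, 3, 0, 0, 4, 0, 0, 0],
    [3, 3, 1, 1, 4, 3, 6, 1, 5, 2, 3, 3, 5, 5, 4, 3],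
    [0, 1, 0, 0, 6, 0, 0, 0, 0, 0, 0, 1, 0, 0, 6, 0],
    [6, 0, 0, 0, 0, 6, 0, 0, 0, 0, 6, 0, 0, 0, 0, 6],
    [1, 0, 0, 0, 0, 1, 0, 0, 0, 0, 1, 0, 0, 0, 0, 1]),
   ([3, 0, 0, 0, 0, 3, 0, 0, 0, 0, 5, 0, 0, 0, 0, 5],
    [4, 0, 0, 0, 0, 4, 0, 0, 0, 0, 2, 0, 0, 0, 0, 2],
    [2, 0, 0, 0, 0, 2, 0, 0, 0, 0, 4, 0, 0, 0, 0, 4],
    [4, 0, 0, 0, 0, 4, 0, 0, 0, 0, 2, 0, 0, 0, 0, 2],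
    [2, 0, 0, 0, 0, 2, 0, 0, 0, 0, 4, 0, 0, 0, 0, 4]),
   ([0, 0, 6, 0, 0, 0, 0, 6, 0, 6, 0, 0, 1, 0, 0, 0],
    [3, 3, 4, 4, 4, 3, 3, 4, 3, 4, 3, 3, 3, 3, 4, 3],
    [0, 1, 0, 0, 6, 0, 0, 0, 0, 0, 0, 1, 0, 0, 6, 0],
    [6, 0, 0, 0, 0, 6, 0, 0, 0, 0, 6, 0, 0, 0, 0, 6],
    [1, 0, 0, 0, 0, 1, 0, 0, 0, 0, 1, 0, 0, 0, 0, 1]),
   ([5, 0, 0, 0, 0, 5, 0, 0, 0, 0, 3, 0, 0, 0, 0, 3],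
    [2, 0, 0, 0, 0, 2, 0, 0, 0, 0, 4, 0, 0, 0, 0, 4],
    [4, 0, 0, 0, 0, 4, 0, 0, 0, 0, 2, 0, 0, 0, 0, 2],
    [2, 0, 0, 0, 0, 2, 0, 0, 0, 0, 4, 0, 0, 0, 0, 4],
    [4, 0, 0, 0, 0, 4, 0, 0, 0, 0, 2, 0, 0, 0, 0, 2]),
   ([0, 0, 0, 2, 0, 0, 5, 0, 3, 0, 0, 0, 0, 3, 0, 0],
    [3, 4, 6, 6, 3, 3, 1, 6, 2, 5, 3, 4, 2, 2, 3, 3],
    [0, 6, 0, 0, 1, 0, 0, 0, 0, 0, 0, 6, 0, 0, 1, 0],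
    [6, 0, 0, 0, 0, 6, 0, 0, 0, 0, 6, 0, 0, 0, 0, 6],
    [1, 0, 0, 0, 0, 1, 0, 0, 0, 0, 1, 0, 0, 0, 0, 1]),
   ([0, 0, 0, 1, 0, 0, 6, 0, 6, 0, 0, 0, 0, 6, 0, 0],
    [3, 4, 3, 3, 3, 3, 4, 3, 4, 3, 3, 4, 4, 4, 3, 3],
    [0, 6, 0, 0, 1, 0, 0, 0, 0, 0, 0, 6, 0, 0, 1, 0],
    [6, 0, 0, 0, 0, 6, 0, 0, 0, 0, 6, 0, 0, 0, 0, 6],
    [1, 0, 0, 0, 0, 1, 0, 0, 0, 0, 1, 0, 0, 0, 0, 1]),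
   ([0, 0, 0, 4, 0, 0, 3, 0, 5, 0, 0, 0, 0, 5, 0, 0],
    [3, 4, 5, 5, 3, 3, 2, 5, 1, 6, 3, 4, 1, 1, 3, 3],
    [0, 6, 0, 0, 1, 0, 0, 0, 0, 0, 0, 6, 0, 0, 1, 0],
    [6, 0, 0, 0, 0, 6, 0, 0, 0, 0, 6, 0, 0, 0, 0, 6],
    [1, 0, 0, 0, 0, 1, 0, 0, 0, 0, 1, 0, 0, 0, 0, 1]),
   ([0, 1, 0, 0, 6, 0, 0, 0, 0, 0, 0, 1, 0, 0, 6, 0],
    [3, 3, 0, 0, 4, 3, 0, 0, 0, 0, 3, 3, 0, 0, 4, 3],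
    [6, 0, 0, 0, 0, 6, 0, 0, 0, 0, 6, 0, 0, 0, 0, 6],
    [1, 0, 0, 0, 0, 1, 0, 0, 0, 0, 1, 0, 0, 0, 0, 1],
    [1, 0, 0, 0, 0, 1, 0, 0, 0, 0, 1, 0, 0, 0, 0, 1]),
   ([6, 0, 0, 0, 0, 6, 0, 0, 0, 0, 6, 0, 0, 0, 0, 6],
    [3, 0, 0, 0, 0, 3, 0, 0, 0, 0, 3, 0, 0, 0, 0, 3],
    [1, 0, 0, 0, 0, 1, 0, 0, 0, 0, 1, 0, 0, 0, 0, 1],
    [1, 0, 0, 0, 0, 1, 0, 0, 0, 0, 1, 0, 0, 0, 0, 1],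
    [1, 0, 0, 0, 0, 1, 0, 0, 0, 0, 1, 0, 0, 0, 0, 1]),
   ([0, 4, 0, 0, 3, 0, 0, 0, 0, 0, 0, 2, 0, 0, 5, 0],
    [2, 1, 0, 0, 6, 2, 0, 0, 0, 0, 4, 1, 0, 0, 6, 4],
    [5, 0, 0, 0, 0, 5, 0, 0, 0, 0, 3, 0, 0, 0, 0, 3],
    [4, 0, 0, 0, 0, 4, 0, 0, 0, 0, 2, 0, 0, 0, 0, 2],
    [2, 0, 0, 0, 0, 2, 0, 0, 0, 0, 4, 0, 0, 0, 0, 4]),
   ([0, 2, 0, 0, 5, 0, 0, 0, 0, 0, 0, 4, 0, 0, 3, 0],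
    [4, 1, 0, 0, 6, 4, 0, 0, 0, 0, 2, 1, 0, 0, 6, 2],
    [3, 0, 0, 0, 0, 3, 0, 0, 0, 0, 5, 0, 0, 0, 0, 5],
    [2, 0, 0, 0, 0, 2, 0, 0, 0, 0, 4, 0, 0, 0, 0, 4],
    [4, 0, 0, 0, 0, 4, 0, 0, 0, 0, 2, 0, 0, 0, 0, 2]),
   ([0, 0, 1, 0, 0, 0, 0, 1, 0, 1, 0, 0, 6, 0, 0, 0],
    [3, 3, 3, 3, 4, 3, 4, 3, 4, 3, 3, 3, 4, 4, 4, 3],
    [0, 1, 0, 0, 6, 0, 0, 0, 0, 0, 0, 1, 0, 0, 6, 0],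
    [6, 0, 0, 0, 0, 6, 0, 0, 0, 0, 6, 0, 0, 0, 0, 6],
    [1, 0, 0, 0, 0, 1, 0, 0, 0, 0, 1, 0, 0, 0, 0, 1]),
   ([0, 0, 4, 0, 0, 0, 0, 4, 0, 2, 0, 0, 5, 0, 0, 0],
    [3, 3, 5, 5, 4, 3, 2, 5, 1, 6, 3, 3, 1, 1, 4, 3],
    [0, 1, 0, 0, 6, 0, 0, 0, 0, 0, 0, 1, 0, 0, 6, 0],
    [6, 0, 0, 0, 0, 6, 0, 0, 0, 0, 6, 0, 0, 0, 0, 6],
    [1, 0, 0, 0, 0, 1, 0, 0, 0, 0, 1, 0, 0, 0, 0, 1]),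
   ([0, 0, 2, 0, 0, 0, 0, 2, 0, 4, 0, 0, 3, 0, 0, 0],
    [3, 3, 6, 6, 4, 3, 1, 6, 2, 5, 3, 3, 2, 2, 4, 3],
    [0, 1, 0, 0, 6, 0, 0, 0, 0, 0, 0, 1, 0, 0, 6, 0],
    [6, 0, 0, 0, 0, 6, 0, 0, 0, 0, 6, 0, 0, 0, 0, 6],
    [1, 0, 0, 0, 0, 1, 0, 0, 0, 0, 1, 0, 0, 0, 0, 1]),
   ([2, 0, 0, 0, 0, 2, 0, 0, 0, 0, 4, 0, 0, 0, 0, 4],
    [1, 0, 0, 0, 0, 1, 0, 0, 0, 0, 5, 0, 0, 0, 0, 5],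
    [4, 0, 0, 0, 0, 4, 0, 0, 0, 0, 2, 0, 0, 0, 0, 2],
    [2, 0, 0, 0, 0, 2, 0, 0, 0, 0, 4, 0, 0, 0, 0, 4],
    [4, 0, 0, 0, 0, 4, 0, 0, 0, 0, 2, 0, 0, 0, 0, 2]),
   ([4, 0, 0, 0, 0, 4, 0, 0, 0, 0, 2, 0, 0, 0, 0, 2],
    [5, 0, 0, 0, 0, 5, 0, 0, 0, 0, 1, 0, 0, 0, 0, 1],
    [2, 0, 0, 0, 0, 2, 0, 0, 0, 0, 4, 0, 0, 0, 0, 4],
    [4, 0, 0, 0, 0, 4, 0, 0, 0, 0, 2, 0, 0, 0, 0, 2],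
    [2, 0, 0, 0, 0, 2, 0, 0, 0, 0, 4, 0, 0, 0, 0, 4]),
   ([0, 0, 0, 3, 0, 0, 4, 0, 2, 0, 0, 0, 0, 2, 0, 0],
    [3, 4, 2, 2, 3, 3, 5, 2, 6, 1, 3, 4, 6, 6, 3, 3],
    [0, 6, 0, 0, 1, 0, 0, 0, 0, 0, 0, 6, 0, 0, 1, 0],
    [6, 0, 0, 0, 0, 6, 0, 0, 0, 0, 6, 0, 0, 0, 0, 6],
    [1, 0, 0, 0, 0, 1, 0, 0, 0, 0, 1, 0, 0, 0, 0, 1]),
   ([0, 0, 0, 5, 0, 0, 2, 0, 4, 0, 0, 0, 0, 4, 0, 0],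
    [3, 4, 1, 1, 3, 3, 6, 1, 5, 2, 3, 4, 5, 5, 3, 3],
    [0, 6, 0, 0, 1, 0, 0, 0, 0, 0, 0, 6, 0, 0, 1, 0],
    [6, 0, 0, 0, 0, 6, 0, 0, 0, 0, 6, 0, 0, 0, 0, 6],
    [1, 0, 0, 0, 0, 1, 0, 0, 0, 0, 1, 0, 0, 0, 0, 1]),
   ([0, 3, 0, 0, 4, 0, 0, 0, 0, 0, 0, 5, 0, 0, 2, 0],
    [2, 6, 0, 0, 1, 2, 0, 0, 0, 0, 4, 6, 0, 0, 1, 4],
    [5, 0, 0, 0, 0, 5, 0, 0, 0, 0, 3, 0, 0, 0, 0, 3],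
    [4, 0, 0, 0, 0, 4, 0, 0, 0, 0, 2, 0, 0, 0, 0, 2],
    [2, 0, 0, 0, 0, 2, 0, 0, 0, 0, 4, 0, 0, 0, 0, 4])]

def LN : List (List ℕ) := TAB.map (fun r => r.1)

set_option maxRecDepth 1000000 in
theorem LN_one : oneN ∈ LN := by decide +kernel

set_option maxRecDepth 1000000 in
theorem LN_closed : ∀ A ∈ LN, mulN A G1N ∈ LN ∧ mulN A G1iN ∈ LN ∧ mulN A G2N ∈ LN ∧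
    mulN A G2iN ∈ LN := by decide +kernel

set_option maxRecDepth 1000000 in
theorem TAB_ok : ∀ r ∈ TAB, (r.1 = oneN ∨ mulN r.2.1 r.1 = addN r.2.1 oneN) ∧
    mulN r.1 r.1 = r.2.2.1 ∧ mulN r.2.2.1 r.2.2.1 = r.2.2.2.1 ∧
    mulN r.2.2.2.1 r.2.2.2.1 = r.2.2.2.2 ∧
    (r.2.2.2.2 = oneN ∨ mulN r.2.2.2.2 r.2.2.2.1 = oneN) := by decide +kernel

set_option maxRecDepth 1000000 in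
theorem G1_inv : mulN G1N G1iN = oneN ∧ mulN G1iN G1N = oneN := by decide +kernel
set_option maxRecDepth 1000000 in
theorem G2_inv : mulN G2N G2iN = oneN ∧ mulN G2iN G2N = oneN := by decide +kernel
set_option maxRecDepth 1000000 in
theorem G1_pow : mulN G1N G1N = G1sqN ∧ mulN G1sqN G1sqN = negOneN ∧
    mulN negOneN negOneN = oneN := by decide +kernel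
set_option maxRecDepth 1000000 in
theorem G2_pow : mulN G2N G2N = G2sqN ∧ mulN G2sqN G2sqN = G2p4N ∧
    mulN G2p4N G2sqN = negOneN := by decide +kernel

end Cfsg.Agent.Helper29.Spec7
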